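import Mathlib.GroupTheory.Perm.ViaEmbedding
import Mathlib.GroupTheory.SpecificGroups.Alternating
import Mathlib.GroupTheory.Sylow
import Mathlib.NumberTheory.Padics.PadicVal.Basic
import Mathlib.Data.ZMod.Basic
import Mathlib.GroupTheory.Abelianization.Defs

/-!
# Sylow subgroups of symmetric and alternating groups are generated by elements of prime order
-/

set_option autoImplicit false
set_option linter.unusedSectionVars false

namespace CfsgLib.SylowSym

open Equiv

/-- The elements killed by `p` of a subgroup. -/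
def killed {G : Type*} [Group G] (p : ℕ) (S : Subgroup G) : Set G := {g | g ∈ S ∧ g ^ p = 1}

theorem killed_map {G H : Type*} [Group G] [Group H] (p : ℕ) (f : G →* H) (S : Subgroup G)
    {g : G} (hg : g ∈ Subgroup.closure (killed p S)) :
    f g ∈ Subgroup.closure (killed p (S.map f)) := by
  have h : f g ∈ (Subgroup.closure (killed p S)).map f := Subgroup.mem_map_of_mem f hg
  rw [MonoidHom.map_closure] at h
  refine Subgroup.closure_mono ?_ h
  rintro _ ⟨s, ⟨hs, hp⟩, rfl⟩
  exact ⟨Subgroup.mem_map_of_mem f hs, by rw [← map_pow, hp, map_one]⟩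

theorem pow_mem_commutator {G : Type*} [Group G] [Finite G] {p : ℕ} [Fact p.Prime] (S : Sylow p G)
    (hS : (S : Subgroup G) ≤ Subgroup.closure (killed p (S : Subgroup G))) (P : Sylow p G) :
    ∀ x : (P : Subgroup G), x ^ p ∈ commutator (P : Subgroup G) := by
  let e : (P : Subgroup G) ≃* (S : Subgroup G) := Sylow.equiv P S
  have key : ∀ y : (S : Subgroup G), (Abelianization.of y) ^ p = 1 := by
    have hgen : (⊤ : Subgroup (S : Subgroup G)) ≤
        Subgroup.closure {y : (S : Subgroup G) | y ^ p = 1} := by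
      refine (Subgroup.map_le_map_iff_of_injective (S : Subgroup G).subtype_injective).1 ?_
      rw [← MonoidHom.range_eq_map, Subgroup.range_subtype, MonoidHom.map_closure]
      refine hS.trans (Subgroup.closure_mono fun g hg => ⟨⟨g, hg.1⟩, Subtype.ext hg.2, rfl⟩)
    intro y
    induction hgen (Subgroup.mem_top y) using Subgroup.closure_induction with
    | mem z hz => rw [← map_pow, show z ^ p = 1 from hz, map_one]
    | one => rw [map_one, one_pow]
    | mul a b _ _ ha hb => rw [map_mul, mul_pow, ha, hb, one_mul]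
    | inv a _ ha => rw [map_inv, inv_pow, ha, inv_one]
  intro x
  have h : e x ^ p ∈ commutator (S : Subgroup G) := by
    rw [← Abelianization.ker_of, MonoidHom.mem_ker, map_pow]
    exact key (e x)
  have h2 : e.symm.toMonoidHom (e x ^ p) ∈ (commutator (S : Subgroup G)).map e.symm.toMonoidHom :=
    Subgroup.mem_map_of_mem _ h
  have h3 : (commutator (S : Subgroup G)).map e.symm.toMonoidHom = commutator (P : Subgroup G) := by
    rw [commutator_def, commutator_def, Subgroup.map_commutator,
      Subgroup.map_top_of_surjective _ e.symm.surjective]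
  rw [h3] at h2
  simpa using h2

variable {m p : ℕ}

/-- A permutation of the blocks. -/
def blockPerm (m p : ℕ) : Perm (Fin m) →* Perm (Fin m × ZMod p) where
  toFun τ := prodCongrLeft fun _ => τ
  map_one' := Equiv.ext fun _ => rfl
  map_mul' _ _ := Equiv.ext fun _ => rfl

/-- Translations inside the blocks. -/
def shift (m p : ℕ) : Multiplicative (Fin m → ZMod p) →* Perm (Fin m × ZMod p) where
  toFun f := prodCongrRight fun i => Equiv.addLeft (Multiplicative.toAdd f i)
  map_one' := Equiv.ext fun x => Prod.ext rfl (zero_add x.2)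
  map_mul' f g := Equiv.ext fun x => Prod.ext rfl (add_assoc _ _ _)

theorem blockPerm_apply (τ : Perm (Fin m)) (x : Fin m × ZMod p) :
    blockPerm m p τ x = (τ x.1, x.2) := rfl

theorem shift_apply (f : Multiplicative (Fin m → ZMod p)) (x : Fin m × ZMod p) :
    shift m p f x = (x.1, Multiplicative.toAdd f x.1 + x.2) := rfl

theorem shift_comm (τ : Perm (Fin m)) (f : Multiplicative (Fin m → ZMod p)) :
    shift m p f * blockPerm m p τ =
      blockPerm m p τ * shift m p (Multiplicative.ofAdd fun i => Multiplicative.toAdd f (τ i)) := by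
  refine Equiv.ext fun x => ?_
  simp only [Perm.mul_apply, blockPerm_apply, shift_apply, toAdd_ofAdd]

theorem shift_pow (f : Multiplicative (Fin m → ZMod p)) : shift m p f ^ p = 1 := by
  rw [← map_pow, show f ^ p = 1 from ?_, map_one]
  refine Multiplicative.toAdd.injective (funext fun i => ?_)
  simp [toAdd_pow]

/-- The wreath product of `T` with translations. -/
def wreath (T : Subgroup (Perm (Fin m))) (p : ℕ) : Subgroup (Perm (Fin m × ZMod p)) where
  carrier := {σ | ∃ τ ∈ T, ∃ f, σ = blockPerm m p τ * shift m p f}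
  one_mem' := ⟨1, T.one_mem, 1, by simp⟩
  mul_mem' := by
    rintro _ _ ⟨τ, hτ, f, rfl⟩ ⟨ρ, hρ, g, rfl⟩
    refine ⟨τ * ρ, T.mul_mem hτ hρ, (Multiplicative.ofAdd fun i => Multiplicative.toAdd f (ρ i)) * g, ?_⟩
    rw [map_mul, map_mul, mul_assoc, ← mul_assoc (shift m p f), shift_comm]
    simp only [mul_assoc]
  inv_mem' := by
    rintro _ ⟨τ, hτ, f, rfl⟩
    refine ⟨τ⁻¹, T.inv_mem hτ, Multiplicative.ofAdd fun i => Multiplicative.toAdd f⁻¹ (τ⁻¹ i), ?_⟩
    rw [mul_inv_rev, ← map_inv, ← map_inv, shift_comm]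

theorem card_wreath [NeZero p] (T : Subgroup (Perm (Fin m))) :
    Nat.card (wreath T p) = Nat.card T * p ^ m := by
  have e : Nat.card (T × Multiplicative (Fin m → ZMod p)) = Nat.card T * p ^ m := by
    rw [Nat.card_prod, Nat.card_congr Multiplicative.toAdd, Nat.card_fun, Nat.card_zmod, Nat.card_fin]
  rw [← e]
  symm
  refine Nat.card_congr (Equiv.ofBijective
    (fun q => ⟨blockPerm m p q.1 * shift m p q.2, q.1, q.1.2, q.2, rfl⟩) ⟨fun a b h => ?_, ?_⟩)
  · have h' := congrArg (fun σ : Perm (Fin m × ZMod p) => σ) (congrArg Subtype.val h)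
    have hx : ∀ x : Fin m × ZMod p, ((a.1 : Perm (Fin m)) x.1, Multiplicative.toAdd a.2 x.1 + x.2) =
        ((b.1 : Perm (Fin m)) x.1, Multiplicative.toAdd b.2 x.1 + x.2) := fun x => by
      simpa [Perm.mul_apply, blockPerm_apply, shift_apply] using congrArg (fun σ : Perm _ => σ x) h'
    refine Prod.ext (Subtype.ext (Equiv.ext fun i => congrArg Prod.fst (hx (i, 0))))
      (Multiplicative.toAdd.injective (funext fun i => ?_))
    simpa using congrArg Prod.snd (hx (i, 0))
  · rintro ⟨_, τ, hτ, f, rfl⟩
    exact ⟨(⟨τ, hτ⟩, f), rfl⟩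

theorem sign_blockPerm [NeZero p] (τ : Perm (Fin m)) :
    Perm.sign (blockPerm m p τ) = Perm.sign τ ^ p := by
  show Perm.sign (prodCongrLeft fun _ : ZMod p => τ) = _
  rw [Perm.sign_prodCongrLeft, Finset.prod_const, Finset.card_univ, ZMod.card]

/-- A Sylow subgroup generated by elements killed by `p`, whose even part is generated likewise. -/
theorem exists_sylow (p : ℕ) [hp : Fact p.Prime] : ∀ n : ℕ, ∃ S : Sylow p (Perm (Fin n)),
    (S : Subgroup (Perm (Fin n))) ≤ Subgroup.closure (killed p (S : Subgroup (Perm (Fin n)))) ∧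
    (S : Subgroup (Perm (Fin n))) ⊓ alternatingGroup (Fin n) ≤ Subgroup.closure
      (killed p ((S : Subgroup (Perm (Fin n))) ⊓ alternatingGroup (Fin n))) := by
  classical
  haveI : NeZero p := ⟨hp.out.ne_zero⟩
  intro n
  induction n using Nat.strong_induction_on with
  | _ n IH =>
  rcases Nat.lt_or_ge n p with hlt | hge
  · obtain ⟨S⟩ : Nonempty (Sylow p (Perm (Fin n))) := inferInstance
    have hS : (S : Subgroup (Perm (Fin n))) = ⊥ := by
      rw [Subgroup.eq_bot_iff_card, S.card_eq_multiplicity, Nat.card_eq_fintype_card,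
        Fintype.card_perm, Fintype.card_fin, Nat.factorization_eq_zero_of_not_dvd, pow_zero]
      rw [hp.out.dvd_factorial]
      omega
    refine ⟨S, ?_, ?_⟩
    · rw [hS]; exact bot_le
    · rw [hS, bot_inf_eq]; exact bot_le
  · set m := n / p with hm
    obtain ⟨T, hT1, hT2⟩ := IH m (Nat.div_lt_self (by have := hp.out.pos; omega) hp.out.one_lt)
    obtain ⟨ι⟩ : Nonempty (Fin m × ZMod p ↪ Fin n) :=
      Function.Embedding.nonempty_of_card_le (by
        rw [Fintype.card_prod, Fintype.card_fin, Fintype.card_fin, ZMod.card, hm]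
        exact Nat.div_mul_le_self n p)
    let φ : Perm (Fin m × ZMod p) →* Perm (Fin n) := Perm.viaEmbeddingHom ι
    set W := wreath (T : Subgroup (Perm (Fin m))) p with hW
    have hsign : ∀ σ, Perm.sign (φ σ) = Perm.sign σ := fun σ => by
      rw [show φ σ = Perm.viaEmbedding σ ι from rfl, Perm.viaEmbedding]
      convert Perm.sign_extendDomain σ _ using 3
    have hval : (n.factorial).factorization p = m + (m.factorial).factorization p := by
      rw [Nat.factorization_def _ hp.out, Nat.factorization_def _ hp.out, hm]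
      have h1 := padicValNat_factorial_mul_add (p := p) (n / p) (n := n % p) (Nat.mod_lt _ hp.out.pos)
      rw [Nat.div_add_mod n p] at h1
      rw [h1, padicValNat_factorial_mul, add_comm]
    have hcard : Nat.card (W.map φ) =
        p ^ (Nat.card (Perm (Fin n))).factorization p := by
      rw [Subgroup.card_map_of_injective (Perm.viaEmbeddingHom_injective ι), hW, card_wreath,
        T.card_eq_multiplicity, Nat.card_eq_fintype_card, Fintype.card_perm, Fintype.card_fin,
        Nat.card_eq_fintype_card, Fintype.card_perm, Fintype.card_fin, hval, pow_add, mul_comm]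
    let S : Sylow p (Perm (Fin n)) := Sylow.ofCard (W.map φ) hcard
    have hSW : (S : Subgroup (Perm (Fin n))) = W.map φ := rfl
    have hTW : (T : Subgroup (Perm (Fin m))).map (blockPerm m p) ≤ W := by
      rintro _ ⟨τ, hτ, rfl⟩
      exact ⟨τ, hτ, 1, by rw [map_one, mul_one]⟩
    have hBW : ∀ f, shift m p f ∈ W := fun f =>
      ⟨1, (T : Subgroup (Perm (Fin m))).one_mem, f, by rw [map_one, one_mul]⟩
    refine ⟨S, ?_, ?_⟩
    · rw [hSW]
      rintro _ ⟨_, ⟨τ, hτ, f, rfl⟩, rfl⟩
      refine killed_map p φ W (mul_mem ?_ (Subgroup.subset_closure ⟨hBW f, shift_pow f⟩))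
      refine Subgroup.closure_mono ?_ (killed_map p (blockPerm m p) _ (hT1 hτ))
      exact fun g hg => ⟨hTW hg.1, hg.2⟩
    · rw [hSW]
      rintro x ⟨hxS, hxA⟩
      obtain ⟨_, ⟨τ, hτ, f, rfl⟩, rfl⟩ := hxS
      have heven : ∀ g ∈ Subgroup.closure (killed p W), Perm.sign g = 1 → p ≠ 2 →
          φ g ∈ Subgroup.closure (killed p (W.map φ ⊓ alternatingGroup (Fin n))) := by
        intro g hg _ hp2
        refine Subgroup.closure_mono ?_ (killed_map p φ W hg)
        rintro y ⟨hy, hy'⟩
        refine ⟨⟨hy, Perm.mem_alternatingGroup.2 ?_⟩, hy'⟩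
        have hodd : Odd p := hp.out.odd_of_ne_two hp2
        have h1 : Perm.sign y ^ p = 1 := by rw [← map_pow, hy', map_one]
        rcases Int.units_eq_one_or (Perm.sign y) with h | h
        · exact h
        · rw [h, hodd.neg_one_pow] at h1
          exact absurd h1 (by decide)
      have hσ : Perm.sign (blockPerm m p τ * shift m p f) = 1 := by
        rw [← hsign]; exact Perm.mem_alternatingGroup.1 hxA
      by_cases hp2 : p = 2
      · subst hp2
        have hb : ∀ ρ, Perm.sign (blockPerm m 2 ρ) = 1 := fun ρ => by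
          rw [sign_blockPerm]
          rcases Int.units_eq_one_or (Perm.sign ρ) with h | h <;> rw [h] <;> decide
        have hf : Perm.sign (shift m 2 f) = 1 := by
          rw [map_mul, hb, one_mul] at hσ; exact hσ
        rw [map_mul]
        refine mul_mem ?_ (Subgroup.subset_closure ⟨⟨Subgroup.mem_map_of_mem φ (hBW f),
          Perm.mem_alternatingGroup.2 (by rw [hsign, hf])⟩, by rw [← map_pow, shift_pow, map_one]⟩)
        refine Subgroup.closure_mono ?_ (killed_map 2 (φ.comp (blockPerm m 2)) _ (hT1 hτ))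
        rintro y ⟨hy, hy'⟩
        obtain ⟨ρ, hρ, rfl⟩ := hy
        exact ⟨⟨Subgroup.mem_map_of_mem φ (hTW ⟨ρ, hρ, rfl⟩),
          Perm.mem_alternatingGroup.2 ((hsign _).trans (hb ρ))⟩, hy'⟩
      · refine heven _ (mul_mem ?_ (Subgroup.subset_closure ⟨hBW f, shift_pow f⟩)) hσ hp2
        refine Subgroup.closure_mono ?_ (killed_map p (blockPerm m p) _ (hT1 hτ))
        exact fun g hg => ⟨hTW hg.1, hg.2⟩

/-- Sylow subgroups of the alternating group. -/
theorem exists_sylow_alt (p n : ℕ) [Fact p.Prime] : ∃ Q : Sylow p (alternatingGroup (Fin n)),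
    (Q : Subgroup (alternatingGroup (Fin n))) ≤
      Subgroup.closure (killed p (Q : Subgroup (alternatingGroup (Fin n)))) := by
  obtain ⟨S, -, hS⟩ := exists_sylow p n
  set A := alternatingGroup (Fin n)
  have hp' : IsPGroup p ((S : Subgroup (Perm (Fin n))).subgroupOf A) :=
    S.isPGroup'.comap_subtype
  have hidx : ¬ p ∣ ((S : Subgroup (Perm (Fin n))).subgroupOf A).index := fun h => by
    obtain ⟨c, hc⟩ := Subgroup.relIndex_dvd_index_of_normal A (S : Subgroup (Perm (Fin n)))
    have h1 := Subgroup.relIndex_mul_index (inf_le_left : (S : Subgroup (Perm (Fin n))) ⊓ A ≤ _)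
    have h2 := Subgroup.relIndex_mul_index (inf_le_right : (S : Subgroup (Perm (Fin n))) ⊓ A ≤ _)
    rw [Subgroup.inf_relIndex_left] at h1
    rw [Subgroup.inf_relIndex_right, hc, ← h1] at h2
    change p ∣ (S : Subgroup (Perm (Fin n))).relIndex A at h
    have h0 : A.relIndex (S : Subgroup (Perm (Fin n))) ≠ 0 := fun e => by
      rw [e, zero_mul] at hc; exact Subgroup.index_ne_zero_of_finite hc
    refine S.not_dvd_index (h.trans ⟨c, (Nat.eq_of_mul_eq_mul_left (Nat.pos_of_ne_zero h0) ?_).symm⟩)
    rw [← h2]; ring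
  refine ⟨hp'.toSylow hidx, ?_⟩
  show (S : Subgroup (Perm (Fin n))).subgroupOf A ≤ _
  refine (Subgroup.map_le_map_iff_of_injective A.subtype_injective).1 ?_
  rw [Subgroup.subgroupOf_map_subtype, MonoidHom.map_closure]
  refine hS.trans (Subgroup.closure_mono ?_)
  rintro g ⟨⟨hgS, hgA⟩, hg⟩
  exact ⟨⟨g, hgA⟩, ⟨hgS, Subtype.ext hg⟩, rfl⟩

end CfsgLib.SylowSym
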